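import Groth.Agent.CechLib.Godement
import Mathlib.Algebra.Homology.HomologicalComplexAbelian
import Mathlib.Topology.Sheaves.SheafCondition.UniqueGluing

/-!
# Čech cohomology of acyclic families computes sheaf cohomology
-/

universe u
open CategoryTheory CategoryTheory.Limits TopologicalSpace Opposite
open QCohLib (AbSh HU)

namespace CechLib

variable {X : TopCat.{u}} {ι : Type u} (U : ι → Opens X)

/-- All finite intersections of the family are acyclic for `F`. -/
def Acyc (F : AbSh X) : Prop :=
  ∀ (n : ℕ) (J : Fin (n + 1) → ι) (q : ℕ), Subsingleton (HU F (q + 1) (cap U J))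

variable (F : AbSh X)

/-- Restrictions of a section, as a `0`-cochain. -/
noncomputable def rho : F.obj.obj (op (⨆ i, U i)) ⟶ (cx U F.obj).X 0 :=
  AddCommGrpCat.ofHom ((cochainEquiv U F.obj 0).symm.toAddMonoidHom.comp
    (AddMonoidHom.pi fun J => rs F.obj (cap_le_iSup U J)))

theorem cochainEquiv_rho (s : F.obj.obj (op (⨆ i, U i))) (J : Fin 1 → ι) :
    cochainEquiv U F.obj 0 (rho U F s) J = rs F.obj (cap_le_iSup U J) s :=
  congr_fun ((cochainEquiv U F.obj 0).apply_symm_apply _) J

theorem rho_d : rho U F ≫ (cx U F.obj).d 0 1 = 0 := by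
  refine ConcreteCategory.hom_ext _ _ fun s => ?_
  apply (cochainEquiv U F.obj 1).injective
  refine (ev_d U F.obj 0 _).trans ?_
  funext J
  rw [dd_apply, Fin.sum_univ_two]
  have hr : ∀ J : Fin 1 → ι,
      cochainEquiv U F.obj 0 ((rho U F).hom' s) J = rs F.obj (cap_le_iSup U J) s :=
    cochainEquiv_rho U F s
  refine (congr_arg₂ (· + ·) (congr_arg _ ((congr_arg (rs F.obj _) (hr _)).trans (rs_rs _ _ _ _)))
    (congr_arg _ ((congr_arg (rs F.obj _) (hr _)).trans (rs_rs _ _ _ _)))).trans ?_
  simp

/-- Sections over the union are Čech cycles. -/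
noncomputable def rhoCycles : F.obj.obj (op (⨆ i, U i)) ⟶ (cx U F.obj).cycles 0 :=
  (cx U F.obj).liftCycles (rho U F) 1 (by simp) (rho_d U F)

theorem rho_injective : Function.Injective (rho U F) := fun s t h => by
  refine TopCat.Sheaf.eq_of_locally_eq' (F : TopCat.Sheaf AddCommGrpCat X)
    (fun i : ι => U i) (⨆ i, U i) (fun i => homOfLE (le_iSup U i)) le_rfl s t fun i => ?_
  let J : Fin 1 → ι := fun _ => i
  have hcap : U i ≤ cap U J := (le_cap_iff U).mpr fun _ => le_rfl
  have h' := congr_arg (fun c => rs F.obj hcap (cochainEquiv U F.obj 0 c J)) h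
  simp only [cochainEquiv_rho, rs_rs] at h'
  exact h'

theorem exists_rho_eq (c : Cochain U F.obj 0) (hc : dd U F.obj 0 c = 0) :
    ∃ s, cochainEquiv U F.obj 0 (rho U F s) = c := by
  obtain ⟨s, hs, -⟩ := TopCat.Sheaf.existsUnique_gluing' (F : TopCat.Sheaf AddCommGrpCat X)
    (fun J : Fin 1 → ι => cap U J) (⨆ i, U i) (fun J => homOfLE (cap_le_iSup U J))
    (iSup_le fun i => le_iSup_of_le (fun _ => i) ((le_cap_iff U).mpr fun _ => le_rfl))
    c (fun J₁ J₂ => by
      have h := congr_fun hc ![J₁ 0, J₂ 0]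
      rw [dd_apply, Fin.sum_univ_two] at h
      have e0 : ![J₁ 0, J₂ 0] ∘ (0 : Fin 2).succAbove = J₂ := funext fun a => by
        fin_cases a; rfl
      have e1 : ![J₁ 0, J₂ 0] ∘ (1 : Fin 2).succAbove = J₁ := funext fun a => by
        fin_cases a; rfl
      have cast : ∀ {J K : Fin 1 → ι} (e : J = K) {W : Opens X} (hW : W ≤ cap U J)
          (hW' : W ≤ cap U K), rs F.obj hW (c J) = rs F.obj hW' (c K) := by
        intro J K e W hW hW'
        subst e
        rfl
      rw [cast e0 _ (e0 ▸ cap_comp_le U _ _), cast e1 _ (e1 ▸ cap_comp_le U _ _)] at h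
      have hle : cap U J₁ ⊓ cap U J₂ ≤ cap U ![J₁ 0, J₂ 0] := (le_cap_iff U).mpr fun a => by
        fin_cases a
        · exact inf_le_left.trans (cap_le U J₁ 0)
        · exact inf_le_right.trans (cap_le U J₂ 0)
      have h' := congr_arg (rs F.obj hle) h
      simp only [Fin.val_zero, pow_zero, one_smul, Fin.val_one, pow_one, neg_smul,
        ← sub_eq_add_neg, map_sub, rs_rs, Pi.zero_apply, map_zero, sub_eq_zero] at h'
      exact h'.symm)
  exact ⟨s, funext fun J => (cochainEquiv_rho U F s J).trans (hs J)⟩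

theorem rhoCycles_bijective : Function.Bijective (rhoCycles U F) := by
  have hmono : Function.Injective ((cx U F.obj).iCycles 0) :=
    (AddCommGrpCat.mono_iff_injective _).mp inferInstance
  have hi : ∀ s, (cx U F.obj).iCycles 0 (rhoCycles U F s) = rho U F s := fun s =>
    ConcreteCategory.congr_hom ((cx U F.obj).liftCycles_i (rho U F) 1 (by simp) (rho_d U F)) s
  refine ⟨fun s t h => rho_injective U F ?_, fun z => ?_⟩
  · rw [← hi, ← hi, h]
  · obtain ⟨s, hs⟩ := exists_rho_eq U F (cochainEquiv U F.obj 0 ((cx U F.obj).iCycles 0 z)) (by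
      rw [← ev_d]
      refine (congr_arg _ ?_).trans (map_zero (cochainEquiv U F.obj 1))
      exact ConcreteCategory.congr_hom ((cx U F.obj).iCycles_d 0 1) z)
    exact ⟨s, hmono (by rw [hi]; exact (cochainEquiv U F.obj 0).injective hs)⟩

/-- Degree zero Čech cohomology of a sheaf is its sections on the union. -/
noncomputable def h0Iso : F.obj.obj (op (⨆ i, U i)) ⟶ (cx U F.obj).homology 0 :=
  rhoCycles U F ≫ (cx U F.obj).isoHomologyπ₀.hom

theorem h0Iso_bijective : Function.Bijective (h0Iso U F) :=
  (ConcreteCategory.bijective_of_isIso ((cx U F.obj).isoHomologyπ₀.hom)).comp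
    (rhoCycles_bijective U F)

theorem h0Iso_natural {F G : AbSh X} (g : F ⟶ G) :
    h0Iso U F ≫ HomologicalComplex.homologyMap ((cechComplexFunctor U).map g.hom) 0 =
      g.hom.app (op (⨆ i, U i)) ≫ h0Iso U G := by
  have h : rho U F ≫ ((cechComplexFunctor U).map g.hom).f 0 =
      g.hom.app (op (⨆ i, U i)) ≫ rho U G := by
    refine ConcreteCategory.hom_ext _ _ fun s => ?_
    apply (cochainEquiv U G.obj 0).injective
    funext J
    refine (cochainEquiv_map U g.hom 0 _ J).trans ?_
    refine Eq.trans ?_ (cochainEquiv_rho U G _ J).symm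
    refine (congr_arg _ (cochainEquiv_rho U F s J)).trans ?_
    exact ConcreteCategory.congr_hom (g.hom.naturality (homOfLE (cap_le_iSup U J)).op) s
  have hc : rhoCycles U F ≫ HomologicalComplex.cyclesMap ((cechComplexFunctor U).map g.hom) 0 =
      g.hom.app (op (⨆ i, U i)) ≫ rhoCycles U G := by
    rw [← cancel_mono ((cx U G.obj).iCycles 0)]
    simp [rhoCycles, h]
  rw [h0Iso, h0Iso, ← cancel_mono (cx U G.obj).isoHomologyπ₀.inv]
  simp only [Category.assoc, Iso.hom_inv_id, Category.comp_id,
    CochainComplex.isoHomologyπ₀_inv_naturality, Iso.hom_inv_id_assoc, hc]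

/-- The Čech complexes of a short sequence of sheaves. -/
noncomputable def cxSeq (S : ShortComplex (AbSh X)) :
    ShortComplex (CochainComplex AddCommGrpCat.{u} ℕ) :=
  ShortComplex.mk ((cechComplexFunctor U).map S.f.hom) ((cechComplexFunctor U).map S.g.hom) (by
    refine HomologicalComplex.hom_ext _ _ fun n => ?_
    refine ConcreteCategory.hom_ext _ _ fun c => ?_
    apply (cochainEquiv U S.X₃.obj n).injective
    funext J
    refine (cochainEquiv_map U S.g.hom n _ J).trans ?_
    refine (congr_arg _ (cochainEquiv_map U S.f.hom n c J)).trans ?_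
    refine (congr_arg (fun φ : S.X₁ ⟶ S.X₃ => φ.hom.app (op (cap U J))
      (cochainEquiv U S.X₁.obj n c J)) S.zero).trans ?_
    exact (congr_fun (map_zero (cochainEquiv U S.X₃.obj n)) J).symm)

theorem cxSeq_shortExact {S : ShortComplex (AbSh X)} (hS : S.ShortExact)
    (h : ∀ (n : ℕ) (J : Fin (n + 1) → ι), Subsingleton (HU S.X₁ 1 (cap U J))) :
    (cxSeq U S).ShortExact := by
  refine HomologicalComplex.shortExact_of_degreewise_shortExact _ fun n => ?_
  have := hS.mono_f
  have hmono : ∀ V, Function.Injective (S.f.hom.app (op V)) := fun V =>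
    (AddCommGrpCat.mono_iff_injective _).mp
      (inferInstanceAs (Mono (((sheafToPresheaf _ _).map S.f).app (op V))))
  have hex : ∀ (V : Opens X) (x : S.X₂.obj.obj (op V)), S.g.hom.app (op V) x = 0 →
      ∃ y, S.f.hom.app (op V) y = x := fun V => by
    have : Mono ((S.map (sheafToPresheaf _ _)).map
        ((evaluation (Opens X)ᵒᵖ AddCommGrpCat).obj (op V))).f :=
      (AddCommGrpCat.mono_iff_injective _).mpr (hmono V)
    have he := ((hS.exact.map_of_mono_of_preservesKernel (sheafToPresheaf _ _) hS.mono_f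
      inferInstance).map_of_mono_of_preservesKernel
        ((evaluation (Opens X)ᵒᵖ AddCommGrpCat).obj (op V))
        ((sheafToPresheaf _ _).map_mono S.f) inferInstance)
    exact (ShortComplex.ab_exact_iff _).mp he
  refine
    { exact := (ShortComplex.ab_exact_iff _).mpr fun c hc => ?_
      mono_f := (AddCommGrpCat.mono_iff_injective _).mpr fun c c' hcc' => ?_
      epi_g := (AddCommGrpCat.epi_iff_surjective _).mpr fun c => ?_ }
  · have : ∀ J, ∃ y, S.f.hom.app (op (cap U J)) y = cochainEquiv U S.X₂.obj n c J := fun J =>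
      hex _ _ (((cochainEquiv_map U S.g.hom n c J).symm.trans
        (congr_fun (congr_arg (cochainEquiv U S.X₃.obj n) hc) J)).trans
          (congr_fun (map_zero (cochainEquiv U S.X₃.obj n)) J))
    choose y hy using this
    refine ⟨(cochainEquiv U S.X₁.obj n).symm y, (cochainEquiv U S.X₂.obj n).injective
      (funext fun J => ?_)⟩
    refine (cochainEquiv_map U S.f.hom n _ J).trans ?_
    rw [AddEquiv.apply_symm_apply, hy]
  · refine (cochainEquiv U S.X₁.obj n).injective (funext fun J => hmono _ ?_)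
    rw [← cochainEquiv_map, ← cochainEquiv_map]
    exact congr_fun (congr_arg (cochainEquiv U S.X₂.obj n) hcc') J
  · have : ∀ J, ∃ y, S.g.hom.app (op (cap U J)) y = cochainEquiv U S.X₃.obj n c J := fun J =>
      haveI := h n J
      QCohLib.exists_lift_of_subsingleton hS _
    choose y hy using this
    refine ⟨(cochainEquiv U S.X₂.obj n).symm y, (cochainEquiv U S.X₃.obj n).injective
      (funext fun J => ?_)⟩
    refine (cochainEquiv_map U S.g.hom n _ J).trans ?_
    rw [AddEquiv.apply_symm_apply, hy]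

/-- The embedding into discontinuous sections. -/
noncomputable abbrev gdSeq : ShortComplex (AbSh X) :=
  ShortComplex.mk (gdι F) (cokernel.π (gdι F)) (cokernel.condition _)

theorem gdSeq_shortExact : (gdSeq F).ShortExact where
  exact := ShortComplex.exact_of_g_is_cokernel _ (cokernelIsCokernel _)
  mono_f := inferInstanceAs (Mono (gdι F))
  epi_g := inferInstanceAs (Epi (cokernel.π (gdι F)))

instance subsingleton_gd (n : ℕ) (V : Opens X) : Subsingleton (HU (gdSeq F).X₂ (n + 1) V) :=
  QCohLib.subsingleton_of_isFlasque n (gd F) V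

theorem isZero_gd (p : ℕ) : IsZero ((cxSeq U (gdSeq F)).X₂.homology (p + 1)) :=
  (isZero_homology_succ_iff U (gd F).obj p).mpr (gd_cech F U p)

theorem acyc_quotient {F : AbSh X} (h : Acyc U F) : Acyc U (gdSeq F).X₃ := fun n J q =>
  haveI : Subsingleton (HU (gdSeq F).X₁ (q + 1 + 1) (cap U J)) := h n J (q + 1)
  QCohLib.subsingleton_X₃ (gdSeq_shortExact F)

/-- **Čech cohomology of an acyclic family computes cohomology.** -/
theorem nonempty_homology_equiv (p : ℕ) (F : AbSh X) (h : Acyc U F) :
    Nonempty ((cx U F.obj).homology p ≃+ HU F p (⨆ i, U i)) := by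
  induction p generalizing F with
  | zero =>
    exact ⟨(AddEquiv.ofBijective (h0Iso U F).hom (h0Iso_bijective U F)).symm.trans
      QCohLib.h0.symm⟩
  | succ p ih =>
    have hS := gdSeq_shortExact F
    have hC := cxSeq_shortExact U hS fun n J => h n J 0
    match p with
    | 0 =>
      have := hC.epi_δ (i := 0) (j := 1) (hij := rfl) (isZero_gd U F 0)
      let ψ : (gdSeq F).X₃.obj.obj (op (⨆ i, U i)) →+ (cx U F.obj).homology 1 :=
        (h0Iso U (gdSeq F).X₃ ≫ hC.δ 0 1 rfl).hom
      refine QCohLib.nonempty_addEquiv_of_ker_eq ψ (QCohLib.delta0 hS (⨆ i, U i))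
        (((AddCommGrpCat.epi_iff_surjective _).mp this).comp (h0Iso_bijective U _).2)
        (QCohLib.delta0_surjective hS _) ?_
      ext q
      rw [AddMonoidHom.mem_ker, AddMonoidHom.mem_ker, QCohLib.delta0_eq_zero_iff hS]
      have hnat := h0Iso_natural U (gdSeq F).g
      constructor
      · intro hq
        obtain ⟨z, hz⟩ := (ShortComplex.ab_exact_iff _).mp (hC.homology_exact₃ 0 1 rfl)
          (h0Iso U _ q) hq
        obtain ⟨t, rfl⟩ := (h0Iso_bijective U (gd F)).2 z
        refine ⟨t, (h0Iso_bijective U _).1 ?_⟩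
        exact ((ConcreteCategory.congr_hom hnat t).symm).trans hz
      · rintro ⟨t, rfl⟩
        have h0 := ConcreteCategory.congr_hom
          (hC.comp_δ 0 1 rfl) (h0Iso U (gd F) t)
        exact (congr_arg (hC.δ 0 1 rfl) (ConcreteCategory.congr_hom hnat t).symm).trans h0
    | p + 1 =>
      obtain ⟨e⟩ := ih (gdSeq F).X₃ (acyc_quotient U h)
      exact ⟨((hC.δIso (p + 1) (p + 2) rfl (isZero_gd U F p)
        (isZero_gd U F (p + 1))).addCommGroupIsoToAddEquiv.symm).trans
          (e.trans (QCohLib.deltaEquiv hS p (⨆ i, U i)))⟩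

end CechLib
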