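import Groth.Agent.CechLib.Compare

/-!
# Lifting sections from Čech vanishing, and Cartan's criterion
-/

universe u
open CategoryTheory CategoryTheory.Limits TopologicalSpace Opposite
open QCohLib (AbSh HU)

namespace CechLib

variable {X : TopCat.{u}} {ι : Type u}

theorem exists_of_app_eq_zero {S : ShortComplex (AbSh X)} (hS : S.ShortExact) (V : Opens X)
    (x : S.X₂.obj.obj (op V)) (hx : S.g.hom.app (op V) x = 0) :
    ∃ y, S.f.hom.app (op V) y = x := by
  have := hS.mono_f
  have : Mono ((S.map (sheafToPresheaf _ _)).map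
      ((evaluation (Opens X)ᵒᵖ AddCommGrpCat).obj (op V))).f :=
    inferInstanceAs (Mono (((sheafToPresheaf _ _).map S.f).app (op V)))
  have he := ((hS.exact.map_of_mono_of_preservesKernel (sheafToPresheaf _ _) hS.mono_f
    inferInstance).map_of_mono_of_preservesKernel
      ((evaluation (Opens X)ᵒᵖ AddCommGrpCat).obj (op V))
      ((sheafToPresheaf _ _).map_mono S.f) inferInstance)
  exact (ShortComplex.ab_exact_iff _).mp he x hx

theorem app_injective {A B : AbSh X} (φ : A ⟶ B) [Mono φ] (V : Opens X) :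
    Function.Injective (φ.hom.app (op V)) :=
  (AddCommGrpCat.mono_iff_injective _).mp
    (inferInstanceAs (Mono (((sheafToPresheaf _ _).map φ).app (op V))))

theorem app_rs {A B : AbSh X} (φ : A ⟶ B) {V W : Opens X} (h : W ≤ V) (x : A.obj.obj (op V)) :
    φ.hom.app (op W) (rs A.obj h x) = rs B.obj h (φ.hom.app (op V) x) :=
  ConcreteCategory.congr_hom (φ.hom.naturality (homOfLE h).op) x

/-- Sections lift if they lift on a covering on which the first Čech cohomology of the kernel
vanishes. -/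
theorem exists_lift_of_cech {S : ShortComplex (AbSh X)} (hS : S.ShortExact) (U : ι → Opens X)
    (h : IsZero ((cx U S.X₁.obj).homology 1)) (s : S.X₃.obj.obj (op (⨆ i, U i)))
    (t : ∀ i, S.X₂.obj.obj (op (U i)))
    (ht : ∀ i, S.g.hom.app (op (U i)) (t i) = rs S.X₃.obj (le_iSup U i) s) :
    ∃ t' : S.X₂.obj.obj (op (⨆ i, U i)), S.g.hom.app (op (⨆ i, U i)) t' = s := by
  have := hS.mono_f
  obtain ⟨T, hT⟩ : ∃ T : Cochain U S.X₂.obj 0, ∀ J : Fin 1 → ι,
      S.g.hom.app (op (cap U J)) (T J) = rs S.X₃.obj (cap_le_iSup U J) s :=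
    ⟨fun J => rs S.X₂.obj (cap_le U J 0) (t (J 0)), fun J =>
      (app_rs S.g _ _).trans ((congr_arg _ (ht (J 0))).trans (rs_rs _ _ _ _))⟩
  have : ∀ J : Fin 2 → ι, ∃ y, S.f.hom.app (op (cap U J)) y = dd U S.X₂.obj 0 T J := fun J => by
    refine exists_of_app_eq_zero hS _ _ ?_
    rw [dd_apply, Fin.sum_univ_two, map_add, map_zsmul, map_zsmul, app_rs, app_rs, hT, hT, rs_rs,
      rs_rs]
    simp
  choose c hc using this
  obtain ⟨b, hb⟩ := (isZero_homology_succ_iff U S.X₁.obj 0).mp h c (funext fun J => by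
    apply app_injective S.f
    rw [dd_apply, map_sum]
    simp only [map_zsmul, app_rs, hc, Pi.zero_apply, map_zero]
    have hdd : dd U S.X₂.obj 1 (dd U S.X₂.obj 0 T) = 0 := by
      obtain ⟨T', rfl⟩ := (cochainEquiv U S.X₂.obj 0).surjective T
      rw [← ev_d, ← ev_d]
      exact (congr_arg _ (ConcreteCategory.congr_hom
        ((cx U S.X₂.obj).d_comp_d 0 1 2) T')).trans (map_zero _)
    exact congr_fun hdd J)
  let T' : Cochain U S.X₂.obj 0 := fun J => T J - S.f.hom.app (op (cap U J)) (b J)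
  have hT' : dd U S.X₂.obj 0 T' = 0 := funext fun J => by
    have hbJ := congr_arg (S.f.hom.app (op (cap U J))) (congr_fun hb J)
    rw [hc, dd_apply, map_sum] at hbJ
    simp only [map_zsmul, app_rs] at hbJ
    rw [dd_apply] at hbJ ⊢
    simp only [T', map_sub, zsmul_sub, Finset.sum_sub_distrib, hbJ, sub_self, Pi.zero_apply]
  obtain ⟨u', hu⟩ := exists_rho_eq U S.X₂ T' hT'
  refine ⟨u', rho_injective U S.X₃ ((cochainEquiv U S.X₃.obj 0).injective (funext fun J => ?_))⟩
  rw [cochainEquiv_rho, cochainEquiv_rho, ← app_rs, ← cochainEquiv_rho, hu]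
  simp only [T', map_sub, hT]
  have : S.g.hom.app (op (cap U J)) (S.f.hom.app (op (cap U J)) (b J)) = 0 :=
    (congr_arg (fun φ : S.X₁ ⟶ S.X₃ => φ.hom.app (op (cap U J)) (b J)) S.zero).trans rfl
  rw [this, sub_zero]

/-- Surjectivity on sections when every covering has a refinement with vanishing first Čech
cohomology of the kernel. -/
theorem surjective_of_refinements {S : ShortComplex (AbSh X)} (hS : S.ShortExact) (V : Opens X)
    (h : ∀ (κ : Type u) (W : κ → Opens X), iSup W = V → ∃ (ι : Type u) (U : ι → Opens X),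
      iSup U = V ∧ (∀ i, ∃ k, U i ≤ W k) ∧ IsZero ((cx U S.X₁.obj).homology 1)) :
    Function.Surjective (S.g.hom.app (op V)) := by
  intro s
  have hls := (Sheaf.isLocallySurjective_iff_epi' (φ := S.g)).mpr hS.epi_g
  have hp : ∀ p : V, ∃ (W : Opens X), W ≤ V ∧ p.1 ∈ W ∧
      ∃ t, ∀ hW : W ≤ V, S.g.hom.app (op W) t = rs S.X₃.obj hW s := fun p => by
    obtain ⟨W, hW, ⟨t, ht⟩, hpW⟩ :=
      (TopCat.Presheaf.isLocallySurjective_iff S.g.hom).mp hls V s p.1 p.2
    exact ⟨W, hW, hpW, t, fun _ => ht⟩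
  choose W hWle hpW t ht using hp
  obtain ⟨ι, U, hU, href, hz⟩ := h V W (le_antisymm (iSup_le hWle)
    (fun p hp => Opens.mem_iSup.mpr ⟨⟨p, hp⟩, hpW ⟨p, hp⟩⟩))
  choose k hk using href
  subst hU
  exact exists_lift_of_cech hS U hz s (fun i => rs S.X₂.obj (hk i) (t (k i))) fun i =>
    (app_rs S.g _ _).trans ((congr_arg _ (ht (k i) (hWle (k i)))).trans (rs_rs _ _ _ _))

/-- **Cartan's criterion.** -/
theorem subsingleton_HU_of_cartan (B : Set (Opens X)) (Cov : ∀ (ι : Type u), (ι → Opens X) → Prop)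
    (h1 : ∀ (ι : Type u) (V : ι → Opens X), Cov ι V →
      ∀ (p : ℕ) (a : Fin (p + 1) → ι), cap V a ∈ B)
    (h2 : ∀ U ∈ B, ∀ (κ : Type u) (W : κ → Opens X), iSup W = U →
      ∃ (ι : Type u) (V : ι → Opens X), Cov ι V ∧ iSup V = U ∧ ∀ i, ∃ k, V i ≤ W k)
    (F : AbSh X) (h3 : ∀ (ι : Type u) (V : ι → Opens X), Cov ι V →
      ∀ p : ℕ, IsZero ((cx V F.obj).homology (p + 1)))
    (q : ℕ) (U : Opens X) (hU : U ∈ B) : Subsingleton (HU F (q + 1) U) := by
  induction q using Nat.strong_induction_on generalizing F U with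
  | _ q ih =>
    have hS := gdSeq_shortExact F
    match q with
    | 0 =>
      refine subsingleton_of_forall_eq 0 fun x => ?_
      obtain ⟨y, rfl⟩ := QCohLib.delta0_surjective hS U x
      rw [QCohLib.delta0_eq_zero_iff]
      refine surjective_of_refinements hS U (fun κ W hW => ?_) y
      obtain ⟨ι, V, hV, hVU, href⟩ := h2 U hU κ W hW
      exact ⟨ι, V, hVU, href, h3 ι V hV 0⟩
    | q + 1 =>
      have hQ : Subsingleton (HU (gdSeq F).X₃ (q + 1) U) := by
        refine ih q (Nat.lt_succ_self q) (gdSeq F).X₃ (fun ι V hV p => ?_) U hU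
        have hC := cxSeq_shortExact V hS (fun n a => ?_)
        · refine (hC.homology_exact₃ (p + 1) (p + 2) rfl).isZero_X₂ ?_ ?_
          · exact (isZero_gd V F p).eq_of_src _ _
          · exact (h3 ι V hV (p + 1)).eq_of_tgt _ _
        · exact ih 0 (Nat.succ_pos q) F h3 _ (h1 ι V hV n a)
      exact QCohLib.subsingleton_X₁ hS

end CechLib
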