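import Groth.Agent.CechLib.Basic
import Mathlib.Topology.Sheaves.Stalks
import Mathlib.Topology.Sheaves.SheafOfFunctions
import Mathlib.Topology.Sheaves.Flasque

/-!
# The sheaf of discontinuous sections and its Čech acyclicity
-/

universe u
open CategoryTheory CategoryTheory.Limits TopologicalSpace Opposite

namespace CechLib

variable {X : TopCat.{u}} (F : QCohLib.AbSh X)

/-- The underlying presheaf. -/
abbrev pre : TopCat.Presheaf AddCommGrpCat.{u} X := F.obj

/-- Discontinuous sections. -/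
noncomputable def gdPre : (Opens X)ᵒᵖ ⥤ AddCommGrpCat.{u} where
  obj U := AddCommGrpCat.of (∀ x : U.unop, (pre F).stalk x.1)
  map {U V} i := AddCommGrpCat.ofHom
    (AddMonoidHom.pi fun x : V.unop =>
      Pi.evalAddMonoidHom (fun y : U.unop => (pre F).stalk y.1)
        (⟨x.1, leOfHom i.unop x.2⟩ : U.unop))

/-- Discontinuous sections, as a sheaf. -/
noncomputable def gd : QCohLib.AbSh X :=
  ⟨gdPre F, (TopCat.Presheaf.isSheaf_iff_isSheaf_comp (forget AddCommGrpCat.{u})
    (gdPre F)).mpr (TopCat.Presheaf.toTypes_isSheaf X fun x =>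
      (pre F).stalk x)⟩

/-- The germ map. -/
noncomputable def gdι : F ⟶ gd F :=
  ⟨{ app := fun U => AddCommGrpCat.ofHom
      (AddMonoidHom.pi fun x : U.unop => ((pre F).germ U.unop x.1 x.2).hom)
     naturality := fun U V i => by
      ext s
      funext x
      exact TopCat.Presheaf.germ_res_apply (pre F) i.unop x.1 x.2 s }⟩

instance mono_gdι : Mono (gdι F) := by
  have : ∀ U, Mono ((gdι F).hom.app U) := fun U => by
    rw [AddCommGrpCat.mono_iff_injective]
    exact fun s t h => TopCat.Presheaf.section_ext (F : TopCat.Sheaf AddCommGrpCat X) U.unop s t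
      fun x hx => congr_fun h (⟨x, hx⟩ : U.unop)
  have : Mono ((sheafToPresheaf _ _).map (gdι F)) := NatTrans.mono_of_mono_app (gdι F).hom
  exact (sheafToPresheaf _ _).mono_of_mono_map this

instance isFlasque_gd : TopCat.Sheaf.IsFlasque (gd F : TopCat.Sheaf AddCommGrpCat X) := by
  refine ⟨fun {U V} i => ?_⟩
  rw [AddCommGrpCat.epi_iff_surjective]
  classical
  intro s
  refine ⟨fun x => if h : x.1 ∈ V.unop then s ⟨x.1, h⟩ else 0, funext fun x => ?_⟩
  exact dif_pos x.2

theorem gd_cech {ι : Type u} (U : ι → Opens X) (n : ℕ) (c : Cochain U (gd F).obj (n + 1))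
    (hc : dd U (gd F).obj (n + 1) c = 0) : ∃ b, dd U (gd F).obj n b = c := by
  classical
  have hex : ∀ (J : Fin (n + 1) → ι) (x : cap U J), ∃ i, x.1 ∈ U i :=
    fun J x => ⟨J 0, cap_le U J 0 x.2⟩
  have mem : ∀ {m : ℕ} {J : Fin m → ι} {i : ι} {x : X}, x ∈ U i → x ∈ cap U J →
      x ∈ cap U (Fin.cons i J : Fin (m + 1) → ι) := by
    intro m J i x hi hJ
    refine (le_cap_iff U (W := U i ⊓ cap U J)).mpr (fun a => ?_) ⟨hi, hJ⟩
    cases a using Fin.cases with
    | zero => simp
    | succ a => simpa using inf_le_right.trans (cap_le U J a)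
  let b : Cochain U (gd F).obj n := fun J x =>
    c (Fin.cons (Classical.choose (hex J x)) J) ⟨x.1, mem (Classical.choose_spec (hex J x)) x.2⟩
  refine ⟨b, funext fun J => funext fun x => ?_⟩
  have hexJ : ∃ i, x.1 ∈ U i := ⟨J 0, cap_le U J 0 x.2⟩
  set i := Classical.choose hexJ with hi
  have h0 := congr_fun (congr_fun hc (Fin.cons i J))
    ⟨x.1, mem (Classical.choose_spec hexJ) x.2⟩
  rw [dd_apply] at h0 ⊢
  have hsum : ∀ {κ : Type} [Fintype κ] {V : Opens X} (f : κ → (gd F).obj.obj (op V)) (y : V),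
      (∑ k, f k : (gd F).obj.obj (op V)) y = ∑ k, f k y := fun f y =>
    Fintype.sum_apply (M := fun z => (pre F).stalk z.1) y f
  have cast : ∀ {m : ℕ} (d : Cochain U (gd F).obj m) {J₁ J₂ : Fin (m + 1) → ι} (h : J₁ = J₂)
      {y : X} (h₁ : y ∈ cap U J₁) (h₂ : y ∈ cap U J₂), d J₁ ⟨y, h₁⟩ = d J₂ ⟨y, h₂⟩ := by
    intro m d J₁ J₂ h y h₁ h₂
    subst h
    rfl
  rw [hsum, Fin.sum_univ_succ] at h0
  rw [hsum]
  have hs : ∀ k : Fin (n + 2), (Fin.cons i J : Fin (n + 3) → ι) ∘ k.succ.succAbove =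
      Fin.cons i (J ∘ k.succAbove) := fun k => funext fun a => by
    cases a using Fin.cases <;> simp
  have e0 : (Fin.cons i J : Fin (n + 3) → ι) ∘ (0 : Fin (n + 3)).succAbove = J :=
    funext fun a => by simp
  have hc0 : c J x = ∑ k : Fin (n + 2), ((-1 : ℤ) ^ (k : ℕ)) •
      c (Fin.cons i (J ∘ k.succAbove))
        ⟨x.1, mem (Classical.choose_spec hexJ) (cap_comp_le U J k.succAbove x.2)⟩ := by
    rw [← sub_eq_zero, sub_eq_add_neg, ← Finset.sum_neg_distrib]
    refine Eq.trans ?_ h0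
    refine congr_arg₂ (· + ·) ?_ (Finset.sum_congr rfl fun k _ => ?_)
    · simp only [Fin.val_zero, pow_zero, one_smul]
      exact (cast c e0 _ x.2).symm
    · rw [Fin.val_succ, pow_succ, mul_neg_one, neg_smul]
      refine congr_arg Neg.neg (congr_arg _ ?_)
      exact (cast c (hs k) _ _).symm
  rw [hc0]
  rfl

end CechLib
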