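import Groth.Agent.QCohLib.AbPush
import Mathlib.CategoryTheory.Sites.SheafCohomology.Cech
import Mathlib.CategoryTheory.Limits.Lattice
import Mathlib.Algebra.Homology.HomologySequence
import Mathlib.Algebra.Homology.ShortComplex.Ab
import Mathlib.Algebra.Category.Grp.Abelian

/-!
# Concrete description of Mathlib's Čech complex of a presheaf of abelian groups
-/

universe u
open CategoryTheory CategoryTheory.Limits TopologicalSpace Opposite

namespace CechLib

variable {X : TopCat.{u}} {ι : Type u} (U : ι → Opens X)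

/-- The intersection of the members of a tuple. -/
def cap {n : ℕ} (J : Fin n → ι) : Opens X := ⨅ a, U (J a)

theorem le_cap_iff {n : ℕ} {J : Fin n → ι} {W : Opens X} :
    W ≤ cap U J ↔ ∀ a, W ≤ U (J a) := le_iInf_iff

theorem cap_le {n : ℕ} (J : Fin n → ι) (a : Fin n) : cap U J ≤ U (J a) := iInf_le _ a

theorem cap_comp_le {n m : ℕ} (J : Fin n → ι) (g : Fin m → Fin n) :
    cap U J ≤ cap U (J ∘ g) := (le_cap_iff U).mpr fun a => cap_le U J (g a)

theorem cap_le_iSup {n : ℕ} (J : Fin (n + 1) → ι) : cap U J ≤ ⨆ i, U i :=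
  (cap_le U J 0).trans (le_iSup U _)

theorem piObj_eq_cap {n : ℕ} (J : Fin n → ι) : (∏ᶜ (U ∘ J) : Opens X) = cap U J :=
  le_antisymm ((le_cap_iff U).mpr fun a => leOfHom (Pi.π (U ∘ J) a))
    (leOfHom (Pi.lift (f := U ∘ J) fun a => homOfLE (cap_le U J a)))

variable (P Q : (Opens X)ᵒᵖ ⥤ AddCommGrpCat.{u})

/-- Restriction. -/
def rs {V W : Opens X} (h : W ≤ V) : P.obj (op V) →+ P.obj (op W) := (P.map (homOfLE h).op).hom

theorem rs_self {V : Opens X} (x : P.obj (op V)) : rs P (le_refl V) x = x := by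
  change (P.map (𝟙 (op V))) x = x
  simp

theorem rs_rs {V W Z : Opens X} (h : W ≤ V) (h' : Z ≤ W) (x : P.obj (op V)) :
    rs P h' (rs P h x) = rs P (h'.trans h) x := by
  change (P.map (homOfLE h).op ≫ P.map (homOfLE h').op) x = _
  rw [← P.map_comp]
  rfl

/-- Čech cochains. -/
abbrev Cochain (n : ℕ) : Type u := ∀ J : Fin (n + 1) → ι, P.obj (op (cap U J))

/-- The Čech differential. -/
def dd (n : ℕ) : Cochain U P n →+ Cochain U P (n + 1) where
  toFun c J := ∑ k : Fin (n + 2), ((-1 : ℤ) ^ (k : ℕ)) •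
    rs P (cap_comp_le U J k.succAbove) (c (J ∘ k.succAbove))
  map_zero' := by funext J; simp
  map_add' c c' := by funext J; simp [Finset.sum_add_distrib]

theorem dd_apply (n : ℕ) (c : Cochain U P n) (J : Fin (n + 2) → ι) :
    dd U P n c J = ∑ k : Fin (n + 2), ((-1 : ℤ) ^ (k : ℕ)) •
      rs P (cap_comp_le U J k.succAbove) (c (J ∘ k.succAbove)) := rfl

/-- Mathlib's Čech complex. -/
noncomputable abbrev cx : CochainComplex AddCommGrpCat.{u} ℕ := (cechComplexFunctor U).obj P

/-- A component of a cochain. -/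
noncomputable def ev (n : ℕ) (J : Fin (n + 1) → ι) : (cx U P).X n →+ P.obj (op (cap U J)) :=
  (rs P (piObj_eq_cap U J).ge).comp
    (Pi.π (fun i : Fin (n + 1) → ι => P.obj (op (∏ᶜ (U ∘ i)))) J).hom

theorem ev_bijective (n : ℕ) : Function.Bijective (fun c J => ev U P n J c) := by
  let e : (cx U P).X n ≃ ∀ J : Fin (n + 1) → ι, P.obj (op (∏ᶜ (U ∘ J))) :=
    (Concrete.productEquiv (fun i : Fin (n + 1) → ι => P.obj (op (∏ᶜ (U ∘ i)))))
  have he : ∀ c J, ev U P n J c = rs P (piObj_eq_cap U J).ge (e c J) := fun c J =>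
    congr_arg (rs P (piObj_eq_cap U J).ge)
      (Concrete.productEquiv_apply_apply (fun i : Fin (n + 1) → ι => P.obj (op (∏ᶜ (U ∘ i))))
        c J).symm
  refine ⟨fun c c' h => e.injective (funext fun J => ?_), fun c => ⟨e.symm fun J =>
    rs P (piObj_eq_cap U J).le (c J), funext fun J => ?_⟩⟩
  · have h1 : ev U P n J c = ev U P n J c' := congr_fun h J
    rw [he, he] at h1
    have h2 := congr_arg (rs P (piObj_eq_cap U J).le) h1
    rwa [rs_rs, rs_rs, rs_self, rs_self] at h2
  · change ev U P n J _ = _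
    rw [he, e.apply_symm_apply, rs_rs, rs_self]

/-- Mathlib's cochains are families of sections. -/
noncomputable def cochainEquiv (n : ℕ) : (cx U P).X n ≃+ Cochain U P n :=
  AddEquiv.ofBijective (AddMonoidHom.pi fun J => ev U P n J) (ev_bijective U P n)

theorem cochainEquiv_apply (n : ℕ) (c : (cx U P).X n) (J : Fin (n + 1) → ι) :
    cochainEquiv U P n c J = ev U P n J c := rfl

/-- A coface map. -/
noncomputable abbrev coface (n : ℕ) (k : Fin (n + 2)) : (cx U P).X n ⟶ (cx U P).X (n + 1) :=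
  CosimplicialObject.δ ((Limits.FormalCoproduct.cosimplicialObjectFunctor
    (Limits.FormalCoproduct.mk _ U).cech).obj P) k

theorem ev_coface (n : ℕ) (k : Fin (n + 2)) (c : (cx U P).X n) (J : Fin (n + 2) → ι) :
    ev U P (n + 1) J (coface U P n k c) =
      rs P (cap_comp_le U J k.succAbove) (ev U P n (J ∘ k.succAbove) c) := by
  have h : coface U P n k ≫ Pi.π (fun i : Fin (n + 2) → ι => P.obj (op (∏ᶜ (U ∘ i)))) J =
      Pi.π (fun i : Fin (n + 1) → ι => P.obj (op (∏ᶜ (U ∘ i)))) (J ∘ k.succAbove) ≫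
        P.map (homOfLE (by rw [piObj_eq_cap, piObj_eq_cap]; exact cap_comp_le U J k.succAbove) :
          (∏ᶜ (U ∘ J) : Opens X) ⟶ ∏ᶜ (U ∘ (J ∘ k.succAbove))).op :=
    Pi.lift_π _ _
  have h' := ConcreteCategory.congr_hom h c
  change rs P _ ((coface U P n k ≫ Pi.π _ J) c) = _
  refine (congr_arg (rs P (piObj_eq_cap U J).ge) h').trans ?_
  exact (rs_rs P _ _ _).trans (rs_rs P _ _ _).symm

theorem cx_d (n : ℕ) : (cx U P).d n (n + 1) =
    ∑ k : Fin (n + 2), ((-1 : ℤ) ^ (k : ℕ)) • coface U P n k := by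
  simp [cx, cechComplexFunctor, coface, AlgebraicTopology.AlternatingCofaceMapComplex.objD]
  rfl

theorem sum_zsmul_apply {A B : AddCommGrpCat.{u}} {κ : Type*} (s : Finset κ) (a : κ → ℤ)
    (f : κ → (A ⟶ B)) (c : A) : (∑ k ∈ s, a k • f k) c = ∑ k ∈ s, a k • f k c := by
  classical
  induction s using Finset.induction_on with
  | empty => simp
  | insert k s hk ih => simp [Finset.sum_insert hk, ih]

theorem ev_d (n : ℕ) (c : (cx U P).X n) :
    cochainEquiv U P (n + 1) ((cx U P).d n (n + 1) c) = dd U P n (cochainEquiv U P n c) := by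
  funext J
  rw [dd_apply, cochainEquiv_apply, cx_d]
  rw [sum_zsmul_apply, map_sum]
  refine Finset.sum_congr rfl fun k _ => ?_
  rw [map_zsmul]
  exact congr_arg _ (ev_coface U P n k c J)

theorem cochainEquiv_map {P Q : (Opens X)ᵒᵖ ⥤ AddCommGrpCat.{u}} (φ : P ⟶ Q) (n : ℕ)
    (c : (cx U P).X n) (J : Fin (n + 1) → ι) :
    cochainEquiv U Q n (((cechComplexFunctor U).map φ).f n c) J =
      φ.app (op (cap U J)) (cochainEquiv U P n c J) := by
  have h : ((cechComplexFunctor U).map φ).f n ≫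
      Pi.π (fun i : Fin (n + 1) → ι => Q.obj (op (∏ᶜ (U ∘ i)))) J =
      Pi.π (fun i : Fin (n + 1) → ι => P.obj (op (∏ᶜ (U ∘ i)))) J ≫
        φ.app (op (∏ᶜ (U ∘ J))) :=
    Pi.map_π (fun i : Fin (n + 1) → ι => φ.app (op (∏ᶜ (U ∘ i)))) J
  refine (congr_arg (rs Q (piObj_eq_cap U J).ge) (ConcreteCategory.congr_hom h c)).trans ?_
  exact (ConcreteCategory.congr_hom (φ.naturality (homOfLE (piObj_eq_cap U J).ge).op) _).symm

/-- The complex is exact in degree `n + 1` iff cocycles are coboundaries. -/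
theorem isZero_homology_succ_iff (n : ℕ) :
    IsZero ((cx U P).homology (n + 1)) ↔
      ∀ c : Cochain U P (n + 1), dd U P (n + 1) c = 0 → ∃ b, dd U P n b = c := by
  rw [← HomologicalComplex.exactAt_iff_isZero_homology,
    HomologicalComplex.exactAt_iff' _ n (n + 1) (n + 2) (by simp) (by simp),
    ShortComplex.ab_exact_iff]
  constructor
  · intro h c hc
    obtain ⟨b, hb⟩ := h ((cochainEquiv U P (n + 1)).symm c) (by
      apply (cochainEquiv U P (n + 2)).injective
      refine (ev_d U P (n + 1) _).trans ?_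
      rw [AddEquiv.apply_symm_apply, hc]
      exact (map_zero (cochainEquiv U P (n + 2))).symm)
    refine ⟨cochainEquiv U P n b, ?_⟩
    rw [← ev_d]
    exact ((congr_arg (cochainEquiv U P (n + 1)) hb).trans (AddEquiv.apply_symm_apply _ c))
  · intro h c hc
    obtain ⟨b, hb⟩ := h (cochainEquiv U P (n + 1) c) (by
      rw [← ev_d]
      exact (congr_arg (cochainEquiv U P (n + 2)) hc).trans (map_zero _))
    refine ⟨(cochainEquiv U P n).symm b, (cochainEquiv U P (n + 1)).injective ?_⟩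
    refine (ev_d U P n _).trans ?_
    rw [AddEquiv.apply_symm_apply, hb]

end CechLib
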